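import Groth.Agent.Lib.Chev24.Divisible
import Groth.Agent.Lib.Chev24.QuasiComp
import Groth.Agent.Lib.SubPre14.Basic
import Groth.Agent.Lib.Chevalley.AffineQuot
import Groth.Agent.Lib.MonoHom.AffineKernel
import Groth.Agent.Lib.FppfSource.Scheme
import Groth.Agent.Lib.Repr.Adjoint
import Groth.Agent.Lib.Repr.Quotient
import Groth.Agent.Lib.FibreDimAt6.ZeroDim
import Groth.Prelude.Def_AlgGrp

/-!
# Largest smooth connected normal subgroups with a property stable under extensions and quotients
-/

set_option autoImplicit false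
set_option linter.all false
set_option backward.isDefEq.respectTransparency false
set_option maxHeartbeats 1000000
set_option synthInstance.maxHeartbeats 200000

universe u

open CategoryTheory CategoryTheory.Limits MonoidalCategory CartesianMonoidalCategory MonObj GrpObj
open AlgebraicGeometry VecGrp Topology

noncomputable section

namespace GrothLib.LargestSub2

attribute [-instance] Hom.commGroup Hom.commMonoid CommGrpObj.toIsCommMonObj

variable {k : Type u} [Field k]

/-- The quotient by a closed normal subgroup is a group of finite type. -/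
theorem exists_quot {G N : Over (Spec (CommRingCat.of k))} [GrpObj G] [GrpObj N] [LocallyOfFiniteType G.hom]
    [QuasiCompact G.hom]
    [LocallyOfFiniteType N.hom] (u : N ⟶ G) [IsMonHom u] [IsClosedImmersion u.left] (hn : AlgGrp.IsNormalHom u) :
    ∃ (Q : Over (Spec (CommRingCat.of k))) (_ : GrpObj Q) (q : G ⟶ Q), IsMonHom q ∧ LocallyOfFiniteType Q.hom ∧
      QuasiCompact Q.hom ∧ Flat q.left ∧ Surjective q.left ∧ AlgGrp.IsKernel u q := by
  haveI : Mono u := Over.mono_of_mono_left u
  obtain ⟨X, p, hf, hs, hp, sq, -, hlft, -, hqc, hsm⟩ := GrothLib.QuotGrp14.exists_quotient_artin k u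
  haveI := hlft
  haveI : QuasiCompact X.hom := hqc inferInstance
  haveI : LocallyOfFiniteType p.left := inferInstance
  have hcov : Chevalley.IsCover p := ⟨hf, hs, inferInstance⟩
  have hker : ∀ {Y : Over (Spec (CommRingCat.of k))} (a b : Y ⟶ G),
      a ≫ p = b ≫ p ↔ ∃ h : Y ⟶ N, b = a * (h ≫ u) := by
    intro Y a b
    constructor
    · intro h
      obtain ⟨l, hl₁, hl₂⟩ := sq.exists_lift b a h.symm
      have e : b = (l ≫ fst N G ≫ u) * a := by
        rw [← hl₁, ← hl₂, ← GrothLib.GrpSchField.lift_fst_snd_comp l, GrothLib.QuotGrp14.lift_act]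
        simp
      obtain ⟨z, hz⟩ := hn Y a⁻¹ (l ≫ fst N G)
      refine ⟨z, ?_⟩
      rw [← hz, e, Category.assoc]
      group
    · rintro ⟨h, rfl⟩
      obtain ⟨z, hz⟩ := hn Y a h
      have e : ((z ≫ u) * a) ≫ p = a ≫ p := by
        rw [← GrothLib.QuotGrp14.lift_act, Category.assoc, sq.w, ← Category.assoc, lift_snd]
      rw [← e, ← hz]
      group
  obtain ⟨str, hhom⟩ := Chevalley.exists_grpObj_quotient u hn p hcov hker
  letI := str
  haveI := hhom
  have hone : ∀ {T : Over (Spec (CommRingCat.of k))} (x : T ⟶ G), x ≫ p = 1 ↔ ∃ h : T ⟶ N, x = h ≫ u := by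
    intro T x
    rw [eq_comm, ← MonObj.one_comp p, hker]
    simp only [_root_.one_mul]
  refine ⟨X, str, p, hhom, inferInstance, inferInstance, hf, hs, ?_⟩
  have w : u ≫ p = toUnit N ≫ η[X] := by
    rw [← Hom.one_def, hone]
    exact ⟨𝟙 N, (Category.id_comp u).symm⟩
  have key : ∀ (T : Over (Spec (CommRingCat.of k))) (x : T ⟶ G) (t : T ⟶ 𝟙_ (Over (Spec (CommRingCat.of k)))),
      x ≫ p = t ≫ η[X] → ∃ h : T ⟶ N, x = h ≫ u := fun T x t h => (hone x).1 (by
    rw [h, Hom.one_def, toUnit_unique t (toUnit T)])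
  refine IsPullback.of_isLimit' ⟨w⟩ (PullbackCone.isLimitAux _
    (fun s => (key _ s.fst s.snd s.condition).choose) ?_ (fun s => toUnit_unique _ _) ?_)
  · intro s
    exact (key _ s.fst s.snd s.condition).choose_spec.symm
  · intro s m hm
    refine (cancel_mono u).1 ?_
    exact (hm WalkingCospan.left).trans (key _ s.fst s.snd s.condition).choose_spec

variable {G : Over (Spec (CommRingCat.of k))} [GrpObj G] [LocallyOfFiniteType G.hom] [QuasiCompact G.hom]

/-- The image of a normal connected smooth subgroup in a quotient. -/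
theorem exists_image_normal {Q : Over (Spec (CommRingCat.of k))} [GrpObj Q] [LocallyOfFiniteType Q.hom]
    [QuasiCompact Q.hom] (q : G ⟶ Q) [IsMonHom q] [Surjective q.left] [Flat q.left]
    {N : Over (Spec (CommRingCat.of k))} [GrpObj N] (i : N ⟶ G) [IsMonHom i] [IsClosedImmersion i.left]
    [Smooth N.hom] [ConnectedSpace N.left] (hN : AlgGrp.IsNormalHom i) :
    ∃ (I : Over (Spec (CommRingCat.of k))) (_ : GrpObj I) (jI : I ⟶ Q) (p : N ⟶ I), IsMonHom jI ∧ IsMonHom p ∧
      IsClosedImmersion jI.left ∧ Smooth I.hom ∧ ConnectedSpace I.left ∧ QuasiCompact I.hom ∧ Flat p.left ∧ Surjective p.left ∧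
      AlgGrp.IsNormalHom jI ∧ p ≫ jI = i ≫ q := by
  haveI : IsSeparated G.hom := GrpSchField.isSeparated G
  haveI : IsSeparated Q.hom := GrpSchField.isSeparated Q
  haveI : QuasiCompact N.hom := by rw [← Over.w i]; infer_instance
  haveI : QuasiCompact (i ≫ q).left := by
    haveI : QuasiCompact ((i ≫ q).left ≫ Q.hom) := by rw [Over.w]; infer_instance
    exact QuasiCompact.of_comp _ Q.hom
  obtain ⟨I, _, p, jI, hp, hjI, hpj, hps, hpf, hplfp, hm, hIlft, -⟩ := Neutral.exists_factor_field (i ≫ q)
  haveI := hp; haveI := hjI; haveI := hm; haveI := hps; haveI := hpf; haveI := hplfp; haveI := hIlft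
  haveI := (Neutral.isClosedImmersion_factor (i ≫ q) hpj).1
  haveI : Smooth I.hom := GrothLib.FppfSource.fppfSourceDescends_smooth p.left I.hom hpf hplfp hps
    (by rw [Over.w p]; infer_instance)
  haveI : ConnectedSpace I.left := p.left.surjective.connectedSpace p.left.continuous
  haveI : QuasiCompact I.hom := by rw [← Over.w jI]; infer_instance
  refine ⟨I, inferInstance, jI, p, hjI, hp, inferInstance, inferInstance, inferInstance, inferInstance, hpf, hps, ?_, hpj⟩
  let c : Q ⊗ I ⟶ Q := fst Q I * (snd Q I ≫ jI) * (fst Q I)⁻¹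
  obtain ⟨n', hn'⟩ := hN (G ⊗ N) (fst G N) (snd G N)
  have hfac : (q ⊗ₘ p) ≫ c = (n' ≫ p) ≫ jI := by
    rw [Category.assoc, hpj, ← Category.assoc n' i q, ← hn']
    simp only [c, MonObj.comp_mul, MonObj.mul_comp, GrpObj.comp_inv, GrpObj.inv_comp, tensorHom_fst, tensorHom_fst_assoc,
      tensorHom_snd_assoc, Category.assoc, hpj]
  haveI : LocallyOfFinitePresentation q.left := by
    haveI : IsLocallyNoetherian Q.left := LocallyOfFiniteType.isLocallyNoetherian Q.hom
    haveI : LocallyOfFiniteType (q.left ≫ Q.hom) := by rw [Over.w q]; infer_instance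
    haveI := locallyOfFiniteType_of_comp q.left Q.hom
    infer_instance
  have hcov : Chevalley.IsCover (q ⊗ₘ p) := Chevalley.cover_tensor ⟨‹_›, ‹_›, ‹_›⟩ ⟨hpf, hps, hplfp⟩
  haveI := hcov.1
  haveI := hcov.2.1
  haveI := hcov.2.2
  haveI : Mono jI.left := inferInstance
  obtain ⟨c', hc'⟩ := GrothLib.FlatFactor.exists_lift_of_cover (q ⊗ₘ p) jI c (n' ≫ p) hfac.symm
  intro T g x
  refine ⟨lift g x ≫ c', ?_⟩
  rw [Category.assoc, hc']
  simp only [c, MonObj.comp_mul, GrpObj.comp_inv, lift_fst, lift_snd_assoc]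

/-- The inverse image of a normal connected smooth subgroup along a quotient with connected smooth kernel. -/
theorem exists_preimage_normal {Q : Over (Spec (CommRingCat.of k))} [GrpObj Q] [LocallyOfFiniteType Q.hom]
    [QuasiCompact Q.hom] (q : G ⟶ Q) [IsMonHom q] [Surjective q.left] [Flat q.left]
    {R : Over (Spec (CommRingCat.of k))} [GrpObj R] (r : R ⟶ G) [IsMonHom r] [IsClosedImmersion r.left]
    [Smooth R.hom] [ConnectedSpace R.left] (hq : AlgGrp.IsKernel r q)
    {U : Over (Spec (CommRingCat.of k))} [GrpObj U] (j : U ⟶ Q) [IsMonHom j] [IsClosedImmersion j.left]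
    [Smooth U.hom] [ConnectedSpace U.left] (hU : AlgGrp.IsNormalHom j) :
    ∃ (P : Over (Spec (CommRingCat.of k))) (_ : GrpObj P) (b : P ⟶ G) (a : P ⟶ U), IsMonHom b ∧ IsMonHom a ∧
      IsClosedImmersion b.left ∧ Smooth P.hom ∧ ConnectedSpace P.left ∧ Flat a.left ∧ AlgGrp.IsNormalHom b ∧
      Surjective a.left ∧ (∃ (c : R ⟶ P), AlgGrp.IsKernel c a ∧ IsMonHom c) ∧ IsPullback a b j q := by
  haveI : IsSeparated G.hom := GrpSchField.isSeparated G
  haveI : IsSeparated Q.hom := GrpSchField.isSeparated Q
  haveI : Mono j := Over.mono_of_mono_left j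
  let P : Over (Spec (CommRingCat.of k)) := Over.mk (pullback.snd j.left q.left ≫ G.hom)
  let b : P ⟶ G := Over.homMk (pullback.snd j.left q.left) rfl
  let a : P ⟶ U := Over.homMk (pullback.fst j.left q.left) (by
    show pullback.fst j.left q.left ≫ U.hom = pullback.snd j.left q.left ≫ G.hom
    rw [← Over.w j, pullback.condition_assoc, Over.w q])
  have hsqL : IsPullback a.left b.left j.left q.left := IsPullback.of_hasPullback j.left q.left
  have hsq : IsPullback a b j q := IsPullback.of_map (Over.forget _) (Over.OverMorphism.ext hsqL.w) hsqL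
  haveI : IsClosedImmersion b.left := inferInstanceAs (IsClosedImmersion (pullback.snd j.left q.left))
  haveI : Surjective a.left := inferInstanceAs (Surjective (pullback.fst j.left q.left))
  obtain ⟨hP, ha, hb⟩ := GrothLib.SubPre14.exists_grpObj_pullback q j a b hsq
  haveI := ha; haveI := hb
  haveI : Mono b := Over.mono_of_mono_left b
  haveI : LocallyOfFiniteType P.hom := by rw [← Over.w b]; infer_instance
  haveI : QuasiCompact P.hom := by rw [← Over.w b]; infer_instance
  haveI : IsSeparated U.hom := GrpSchField.isSeparated U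
  haveI : QuasiCompact a.left := by
    haveI : QuasiCompact (a.left ≫ U.hom) := by rw [Over.w a]; infer_instance
    exact QuasiCompact.of_comp a.left U.hom
  have h1 : (1 : R ⟶ U) ≫ j = r ≫ q := by
    rw [MonObj.one_comp, hq.w, ← Hom.one_def]
  let c : R ⟶ P := hsq.lift 1 r h1
  have hk : GrothLib.SubPre14.KerPairFactors a c := by
    let W := pullback a a
    have hd : ((pullback.fst a a)⁻¹ * pullback.snd a a) ≫ a = 1 := by
      rw [MonObj.mul_comp, GrpObj.inv_comp, pullback.condition, inv_mul_cancel]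
    have hw : (((pullback.fst a a)⁻¹ * pullback.snd a a) ≫ b) ≫ q = toUnit W ≫ η[Q] := by
      rw [Category.assoc, ← hsq.w, reassoc_of% hd, MonObj.one_comp, Hom.one_def]
    refine ⟨W, _, _, hq.lift _ (toUnit W) hw, IsPullback.of_hasPullback a a, ?_⟩
    rw [← cancel_mono b, Category.assoc, hsq.lift_snd, hq.lift_fst]
  haveI : Smooth P.hom := GrothLib.SubPre14.smooth_field a c hk
  haveI : IsReduced U.left := GrothLib.RedSmooth.isReduced_of_smooth U.hom
  haveI : Flat a.left := GrothLib.GrpSchField.flat_hom a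
  haveI : LocallyOfFiniteType a.left := by
    haveI : LocallyOfFiniteType (a.left ≫ U.hom) := by rw [Over.w a]; infer_instance
    exact locallyOfFiniteType_of_comp a.left U.hom
  haveI : IsLocallyNoetherian U.left := LocallyOfFiniteType.isLocallyNoetherian U.hom
  haveI : ConnectedSpace P.left := GrothLib.SubPre14.connected_field a a.left.isOpenMap c hk
  have hkc : AlgGrp.IsKernel c a := by
    have hout : IsPullback (c ≫ b) (toUnit R) q (η[U] ≫ j) := by
      rw [hsq.lift_snd, IsMonHom.one_hom]; exact hq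
    exact IsPullback.of_right hout (by rw [hsq.lift_fst, Hom.one_def]) hsq.flip
  haveI : IsMonHom c := GrothLib.GrpSchField.isMonHom_of_mul c (by
    rw [← cancel_mono b, Category.assoc, hsq.lift_snd, IsMonHom.mul_hom, Category.assoc, IsMonHom.mul_hom,
      ← Category.assoc, tensorHom_comp_tensorHom, hsq.lift_snd])
  haveI : Mono r := Over.mono_of_mono_left r
  haveI : Mono c := by
    haveI : Mono (c ≫ b) := by rw [hsq.lift_snd]; infer_instance
    exact mono_of_mono c b
  refine ⟨P, hP, b, a, hb, ha, inferInstance, inferInstance, inferInstance, inferInstance, fun T g x => ?_,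
    inferInstance, ⟨c, hkc, inferInstance⟩, hsq⟩
  obtain ⟨u, hu⟩ := hU T (g ≫ q) (x ≫ a)
  have h2 : u ≫ j = (g * (x ≫ b) * g⁻¹) ≫ q := by
    rw [← hu, MonObj.mul_comp, MonObj.mul_comp, GrpObj.inv_comp, Category.assoc, Category.assoc, hsq.w]
  exact ⟨hsq.lift u _ h2, (hsq.lift_snd _ _ h2).symm⟩

variable (G) in
omit [GrpObj G] in
/-- The dimensions of integral closed subschemes are bounded. -/
theorem exists_dim_bound : ∃ n : ℕ, ∀ (N : Over (Spec (CommRingCat.of k))) (i : N ⟶ G) [IsClosedImmersion i.left]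
    [IsIntegral N.left], topologicalKrullDim N.left ≤ (n : WithBot ℕ∞) := by
  haveI : IsLocallyNoetherian G.left := LocallyOfFiniteType.isLocallyNoetherian G.hom
  haveI : CompactSpace G.left := QuasiCompact.compactSpace_of_compactSpace G.hom
  haveI : IsNoetherian G.left := ⟨⟩
  have hfin : (irreducibleComponents G.left).Finite := TopologicalSpace.NoetherianSpace.finite_irreducibleComponents
  choose f hf using fun C : irreducibleComponents G.left =>
    GrothLib.Dim.exists_nat_dim_irreducible G.hom (isClosed_of_mem_irreducibleComponents C.1 C.2) C.2.1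
  haveI := hfin.to_subtype
  obtain ⟨n, hn⟩ := (Set.finite_range f).bddAbove
  refine ⟨n, fun N i _ _ => ?_⟩
  have hirr : IsIrreducible (Set.range i.left) := by
    rw [← Set.image_univ]
    exact (IrreducibleSpace.isIrreducible_univ _).image _ i.left.continuous.continuousOn
  obtain ⟨C, hC, hsub⟩ := exists_mem_irreducibleComponents_subset_of_isIrreducible _ hirr
  rw [GrothLib.Dim.IsEmbedding.topologicalKrullDim_eq i.left.isEmbedding rfl]
  refine ((Topology.IsEmbedding.inclusion hsub).isInducing.topologicalKrullDim_le).trans ?_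
  rw [(hf ⟨C, hC⟩).1]
  exact_mod_cast hn ⟨⟨C, hC⟩, rfl⟩

end GrothLib.LargestSub2
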